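import Cfsg.Agent.Lib.Recog.SporBound.Sound

set_option autoImplicit false
set_option maxRecDepth 20000

/-! Generated certificate data, piece 0: Spider relation inside the Y522 quotient. -/

namespace CfsgLib.Recog.SporBound.SpiderC5
open CfsgLib.Recog.SporBound

noncomputable def ft0 : Q (ℕ) := (.leaf 0x60000650000600006400006000063000060000620000600006100005000055000050000540000500005300005000052000040000450000400004400004000043000040000400000300003500003000034000030000310000300003000002000025000020000220000200002100002000020000010000130000100001200001000011000010000100000000000400000000003000000000020000000000100000000000000050000600000400005100003000042000020000330000100002400000000015)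
noncomputable def ct0 : Q (ℕ) := (.leaf 0x6000050000400003000020000100000)
noncomputable def st0 : Q (List ℕ) := (.leaf [42, 43, 44, 45, 46, 0x600000000000000300001000010000a, 0x700000000000000300001000010000e, 0x8000000000000003000010000100011, 0x9000000000000003000010000100013, 0x10000b000010000000003000020000100009, 0x10000c00001000000000300002000010000d, 0x10000d000010000000003000020000100010, 0x1000000000a00000000010000000005000020000000014, 0x20000f000020000000003000030000100008, 0x20001000002000000000300003000010000c, 0x2000010000e00001000020000000005000030000000012, 0x200012000020000000003000030000000013, 0x300013000030000000003000040000100007, 0x300002000110000200003000000000500004000000000f, 0x300015000030000000003000040000000010, 0x300016000030000000003000040000000011, 0x400003000140000300004000000000500005000000000b, 0x40001800004000000000300005000000000c, 0x40001900004000000000300005000000000d, 0x40001a00004000000000300005000000000e, 0x5000040001700004000050000000005000060000000006, 0x50001b000050000000003000060000000007, 0x50001c000050000000003000060000000008, 0x50001d000050000000003000060000000009, 0x50001e00005000000000300006000000000a])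
noncomputable def et0 : Q (List ℕ) := (.leaf [0x60000100000, 0x70000100000, 0x80000100000, 0x90000100000, 0xa0000100000, 0x100001, 0xb0000100001, 0xc0000100001, 0xd0000100001, 0xe0000100001, 0x10000100002, 0x100000, 0xf0000100002, 0x100000100002, 0x110000100002, 0x20000100003, 0x10000100001, 0x120000100002, 0x130000100003, 0x140000100003, 0x30000100004, 0x20000100002, 0x150000100003, 0x160000100003, 0x170000100004, 0x40000100005, 0x30000100003, 0x180000100004, 0x190000100004, 0x1a0000100004, 0x50000100006, 0x40000100004, 0x1b0000100005, 0x1c0000100005, 0x1d0000100005, 0x1e0000100005, 0x50000100005, 0x1f0000100006, 0x200000100006, 0x210000100006, 0x220000100006, 0x230000100006])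

end CfsgLib.Recog.SporBound.SpiderC5
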